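import Cfsg.Agent.Spor.U693.L.D0

set_option autoImplicit false
set_option maxRecDepth 100000000
set_option Elab.async false

namespace Cfsg.Agent.Spor.U693.L

theorem rel3 : U.rel 10 [3, 20, 3, 19] 0 10 = true := by decide +kernel

theorem uok10 : Net.okb 10 un10 = true := by decide +kernel

theorem rel4 : U.rel 10 [21, 7, 13, 15, 11, 5, 5] 0 10 = true := by decide +kernel

theorem uok11 : Net.okb 10 un11 = true := by decide +kernel

theorem rel5 : U.rel 10 [23, 9, 7, 17, 1, 15, 13, 15, 5, 3, 9, 3, 13, 5, 13, 1, 11, 15, 9, 11, 3, 7, 3, 1, 7, 5, 13, 11, 5, 3, 7, 13, 5, 17, 7, 1, 5, 9, 13, 15, 1, 5, 9, 13, 9, 3, 15, 13, 5] 0 10 = true := by decide +kernel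

theorem gr7 : sub M6 (U.growI W1 [2, 3, 4, 5, 6, 7, 8, 7, 6, 4, 3, 2, 1, 2, 3, 4, 5, 6, 7, 8, 7, 4, 3, 2, 3, 4, 6, 7] (Nat.shiftLeft 1 0)) = true := by decide +kernel

theorem cl9 : band (U.closedW W1 M6) (sub (Nat.shiftLeft 1 0) M6) = true := by decide +kernel

theorem sz10 : sizeOk 10 M6 693 = true := by decide +kernel

theorem fx13 : U.closedW W12 (Nat.shiftLeft 1 0) = true := by decide +kernel

theorem uok12 : Net.okb 10 un12 = true := by decide +kernel

theorem rel14 : U.rel 10 [25, 21, 21, 21, 23, 21, 23, 23, 23, 21, 23, 21, 21, 21] 0 10 = true := by decide +kernel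

theorem uok13 : Net.okb 10 un13 = true := by decide +kernel

theorem rel15 : U.rel 10 [27, 21, 23, 23, 23, 21, 21, 21, 23, 21, 23, 23, 23, 23, 23, 21, 21, 21, 21, 21] 0 10 = true := by decide +kernel

theorem gr17 : sub M16 (U.growI W12 [0, 1, 1, 0, 0, 1, 1, 0, 0, 1, 1, 0, 0, 1, 1, 0, 0, 1] (Nat.shiftLeft 1 1)) = true := by decide +kernel

theorem cl19 : band (U.closedW W12 M16) (sub (Nat.shiftLeft 1 1) M16) = true := by decide +kernel

theorem sz20 : sizeOk 10 M16 512 = true := by decide +kernel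

theorem fx23 : U.closedW W22 (Nat.shiftLeft 1 1) = true := by decide +kernel

theorem uok14 : Net.okb 10 un14 = true := by decide +kernel

theorem rel24 : U.rel 10 [29, 25, 25, 25, 27, 25, 25, 27, 27, 25, 25, 27, 27, 27, 25, 27, 25, 25, 27, 27, 25, 25, 27] 0 10 = true := by decide +kernel

theorem uok15 : Net.okb 10 un15 = true := by decide +kernel

theorem rel25 : U.rel 10 [31, 25, 27, 27, 27, 27, 25, 25, 27, 25, 25, 27, 27, 27, 27, 25, 25, 25, 25, 25, 25, 27] 0 10 = true := by decide +kernel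

theorem gr27 : sub M26 (U.growI W22 [0, 1, 1, 0, 0, 1, 1, 0, 0, 1, 1, 0, 0, 1, 1, 0, 0] (Nat.shiftLeft 1 3)) = true := by decide +kernel

theorem cl29 : band (U.closedW W22 M26) (sub (Nat.shiftLeft 1 3) M26) = true := by decide +kernel

theorem sz30 : sizeOk 10 M26 135 = true := by decide +kernel

theorem fx33 : U.closedW W32 (Nat.shiftLeft 1 3) = true := by decide +kernel

theorem uok16 : Net.okb 10 un16 = true := by decide +kernel

theorem rel34 : U.rel 10 [33, 31, 29, 31, 31, 29, 31, 31, 31, 29, 31, 29, 29, 29, 31, 29, 31, 29, 31, 29] 0 10 = true := by decide +kernel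

theorem uok17 : Net.okb 10 un17 = true := by decide +kernel

theorem rel35 : U.rel 10 [35, 31, 29, 31, 29, 29, 31, 29, 31, 29, 31, 29, 31, 29, 31, 31, 31, 29, 31, 31, 29, 31, 29, 31, 31, 29, 29, 31, 29, 29] 0 10 = true := by decide +kernel

theorem gr37 : sub M36 (U.growI W32 [0, 1, 1, 0, 0, 1, 1, 0] (Nat.shiftLeft 1 7)) = true := by decide +kernel

theorem cl39 : band (U.closedW W32 M36) (sub (Nat.shiftLeft 1 7) M36) = true := by decide +kernel

theorem sz40 : sizeOk 10 M36 32 = true := by decide +kernel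

theorem fx43 : U.closedW W42 (Nat.shiftLeft 1 7) = true := by decide +kernel

theorem gr45 : sub M44 (U.growI W42 [0, 1, 1] (Nat.shiftLeft 1 57)) = true := by decide +kernel

theorem cl47 : band (U.closedW W42 M44) (sub (Nat.shiftLeft 1 57) M44) = true := by decide +kernel

theorem sz48 : sizeOk 10 M44 6 = true := by decide +kernel

end Cfsg.Agent.Spor.U693.L
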