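import Cfsg.Agent.Spor.Prim
import Cfsg.Agent.Spor.U693.Main
import Cfsg.Agent.Spor.U693.L.C0
import Cfsg.Agent.Spor.TT2

set_option autoImplicit false
set_option maxRecDepth 100000000
set_option Elab.async false

namespace Cfsg.Agent.Spor.U693.L

theorem hU : U.Ok 10 := U.ok_of 10 (show AllP (fun n => Net.okb 10 n = true) [n0, n1, n2, n3, n4, n5, n6, n7, n8, n9, un10, un11, un12, un13, un14, un15, un16, un17] from AllP.cons ok0 (AllP.cons ok1 (AllP.cons ok2 (AllP.cons ok3 (AllP.cons ok4 (AllP.cons ok5 (AllP.cons ok6 (AllP.cons ok7 (AllP.cons ok8 (AllP.cons ok9 (AllP.cons uok10 (AllP.cons uok11 (AllP.cons uok12 (AllP.cons uok13 (AllP.cons uok14 (AllP.cons uok15 (AllP.cons uok16 (AllP.cons uok17 (AllP.nil)))))))))))))))))))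

theorem hfP : ∀ j < 9, U.fP [1, 3, 5, 7, 9, 11, 13, 15, 17] j = fP j := by
  intro j hj
  interval_cases j <;> rfl
theorem eG : gsub 9 fP = U.lsub W1 := (gsub_congr hfP).symm.trans (lsub_eq_gsub U [1, 3, 5, 7, 9, 11, 13, 15, 17])
theorem upz1 : ev (atm 9 fP) [0] = U.τ 1 := pz1
theorem upz3 : ev (atm 9 fP) [2] = U.τ 3 := pz2
theorem upz5 : ev (atm 9 fP) [4] = U.τ 5 := pz3
theorem upz7 : ev (atm 9 fP) [6] = U.τ 7 := pz4
theorem upz9 : ev (atm 9 fP) [8] = U.τ 9 := pz5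
theorem upz11 : ev (atm 9 fP) [10] = U.τ 11 := pz6
theorem upz13 : ev (atm 9 fP) [12] = U.τ 13 := pz7
theorem upz15 : ev (atm 9 fP) [14] = U.τ 15 := pz8
theorem upz17 : ev (atm 9 fP) [16] = U.τ 17 := pz9
theorem upz19 : ev (atm 9 fP) [4, 2, 6, 4, 12, 4, 6, 2, 4] = U.τ 19 := pz10
theorem eH : wsub 9 fP BW = U.lsub W2 :=
  lsub_eq_of_all₂ (show List.Forall₂ _ [[0], [2], [6], [8], [10], [12], [14], [16], [4, 2, 6, 4, 12, 4, 6, 2, 4]] [[1], [3], [7], [9], [11], [13], [15], [17], [19]] from List.Forall₂.cons (upz1.trans (one_mul _).symm) (List.Forall₂.cons (upz3.trans (one_mul _).symm) (List.Forall₂.cons (upz7.trans (one_mul _).symm) (List.Forall₂.cons (upz9.trans (one_mul _).symm) (List.Forall₂.cons (upz11.trans (one_mul _).symm) (List.Forall₂.cons (upz13.trans (one_mul _).symm) (List.Forall₂.cons (upz15.trans (one_mul _).symm) (List.Forall₂.cons (upz17.trans (one_mul _).symm) (List.Forall₂.cons (upz19.trans (one_mul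 _).symm) (List.Forall₂.nil))))))))))
theorem vpz1 : PZ U (atm 9 fP) EXU 1 := pz1
theorem vpz2 : PZ U (atm 9 fP) EXU 2 := PZ.of_inv hiv vpz1 (by decide +kernel)
theorem vpz3 : PZ U (atm 9 fP) EXU 3 := pz2
theorem vpz4 : PZ U (atm 9 fP) EXU 4 := PZ.of_inv hiv vpz3 (by decide +kernel)
theorem vpz5 : PZ U (atm 9 fP) EXU 5 := pz3
theorem vpz6 : PZ U (atm 9 fP) EXU 6 := PZ.of_inv hiv vpz5 (by decide +kernel)
theorem vpz7 : PZ U (atm 9 fP) EXU 7 := pz4
theorem vpz8 : PZ U (atm 9 fP) EXU 8 := PZ.of_inv hiv vpz7 (by decide +kernel)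
theorem vpz9 : PZ U (atm 9 fP) EXU 9 := pz5
theorem vpz10 : PZ U (atm 9 fP) EXU 10 := PZ.of_inv hiv vpz9 (by decide +kernel)
theorem vpz11 : PZ U (atm 9 fP) EXU 11 := pz6
theorem vpz12 : PZ U (atm 9 fP) EXU 12 := PZ.of_inv hiv vpz11 (by decide +kernel)
theorem vpz13 : PZ U (atm 9 fP) EXU 13 := pz7
theorem vpz14 : PZ U (atm 9 fP) EXU 14 := PZ.of_inv hiv vpz13 (by decide +kernel)
theorem vpz15 : PZ U (atm 9 fP) EXU 15 := pz8
theorem vpz16 : PZ U (atm 9 fP) EXU 16 := PZ.of_inv hiv vpz15 (by decide +kernel)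
theorem vpz17 : PZ U (atm 9 fP) EXU 17 := pz9
theorem vpz18 : PZ U (atm 9 fP) EXU 18 := PZ.of_inv hiv vpz17 (by decide +kernel)
theorem vpz19 : PZ U (atm 9 fP) EXU 19 := pz10
theorem vpz20 : PZ U (atm 9 fP) EXU 20 := PZ.of_inv hiv vpz19 (by decide +kernel)
theorem hPZU : AllP (PZ U (atm 9 fP) EXU) LU :=
  show AllP (PZ U (atm 9 fP) EXU) [1, 2, 3, 4, 5, 6, 7, 8, 9, 10, 11, 12, 13, 14, 15, 16, 17, 18, 19, 20] from AllP.cons vpz1 (AllP.cons vpz2 (AllP.cons vpz3 (AllP.cons vpz4 (AllP.cons vpz5 (AllP.cons vpz6 (AllP.cons vpz7 (AllP.cons vpz8 (AllP.cons vpz9 (AllP.cons vpz10 (AllP.cons vpz11 (AllP.cons vpz12 (AllP.cons vpz13 (AllP.cons vpz14 (AllP.cons vpz15 (AllP.cons vpz16 (AllP.cons vpz17 (AllP.cons vpz18 (AllP.cons vpz19 (AllP.cons vpz20 (AllP.nil))))))))))))))))))))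
theorem hXN : ∀ l ∈ XN, ev (atm 9 fP) l = 1 :=
  relAll_sound hiv (W := [[3, 20, 3, 19]]) (rules := [⟨[3, 20, 3, 19], [], 0, true⟩]) hPZU (AllP.cons (hU.one rel3) (AllP.nil)) (by decide +kernel)
theorem reach8 : Reach (U.lsub W1) 0 M6 := (Reach.grow hU (Reach.base _ 0) gr7)
theorem orb11 : (orbS (U.lsub W1) 0).ncard = 693 := reach8.ncard hU cl9 sz10
theorem orb11e : orbS (U.lsub W1) 0 = {c | Nat.testBit M6 c = true} := reach8.orb hU cl9
theorem reach18 : Reach (U.lsub W12) 1 M16 := (Reach.grow hU (Reach.base _ 1) gr17)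
theorem orb21 : (orbS (U.lsub W12) 1).ncard = 512 := reach18.ncard hU cl19 sz20
theorem orb21e : orbS (U.lsub W12) 1 = {c | Nat.testBit M16 c = true} := reach18.orb hU cl19
theorem reach28 : Reach (U.lsub W22) 3 M26 := (Reach.grow hU (Reach.base _ 3) gr27)
theorem orb31 : (orbS (U.lsub W22) 3).ncard = 135 := reach28.ncard hU cl29 sz30
theorem orb31e : orbS (U.lsub W22) 3 = {c | Nat.testBit M26 c = true} := reach28.orb hU cl29
theorem reach38 : Reach (U.lsub W32) 7 M36 := (Reach.grow hU (Reach.base _ 7) gr37)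
theorem orb41 : (orbS (U.lsub W32) 7).ncard = 32 := reach38.ncard hU cl39 sz40
theorem orb41e : orbS (U.lsub W32) 7 = {c | Nat.testBit M36 c = true} := reach38.orb hU cl39
theorem reach46 : Reach (U.lsub W42) 57 M44 := (Reach.grow hU (Reach.base _ 57) gr45)
theorem orb49 : (orbS (U.lsub W42) 57).ncard = 6 := reach46.ncard hU cl47 sz48
theorem orb49e : orbS (U.lsub W42) 57 = {c | Nat.testBit M44 c = true} := reach46.orb hU cl47
theorem lb50 : 6 ∣ Nat.card (U.lsub W42) := dvd_card_orb orb49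
theorem lb51 : 192 ∣ Nat.card (U.lsub W32) :=
  dvd_card_step (s := 32) (M := 6) (B := U.lsub W42) (Tab.lsub_le_all (AllP.cons (mem_of_rel (hU.one rel34) (U.mem_letters (by decide))) (AllP.cons (mem_of_rel (hU.one rel35) (U.mem_letters (by decide))) (AllP.nil)))) (hU.fixes fx43) orb41 lb50
theorem lb52 : 25920 ∣ Nat.card (U.lsub W22) :=
  dvd_card_step (s := 135) (M := 192) (B := U.lsub W32) (Tab.lsub_le_all (AllP.cons (mem_of_rel (hU.one rel24) (U.mem_letters (by decide))) (AllP.cons (mem_of_rel (hU.one rel25) (U.mem_letters (by decide))) (AllP.nil)))) (hU.fixes fx33) orb31 lb51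
theorem lb53 : 13271040 ∣ Nat.card (U.lsub W12) :=
  dvd_card_step (s := 512) (M := 25920) (B := U.lsub W22) (Tab.lsub_le_all (AllP.cons (mem_of_rel (hU.one rel14) (U.mem_letters (by decide))) (AllP.cons (mem_of_rel (hU.one rel15) (U.mem_letters (by decide))) (AllP.nil)))) (hU.fixes fx23) orb21 lb52
theorem lb : 9196830720 ∣ Nat.card (U.lsub W1) :=
  dvd_card_step (s := 693) (M := 13271040) (B := U.lsub W12) (Tab.lsub_le_all (AllP.cons (mem_of_rel (hU.one rel4) (U.mem_letters (by decide))) (AllP.cons (mem_of_rel (hU.one rel5) (U.mem_letters (by decide))) (AllP.nil)))) (hU.fixes fx13) orb11 lb53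

end Cfsg.Agent.Spor.U693.L
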